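import Cfsg.Agent.H994.KE.Base_m3
import Cfsg.Agent.H795.TorSub
import Cfsg.Agent.H296.KB.Rank
import Mathlib
import Cfsg.Agent.S0126
import Cfsg.Agent.H795.Tw
import Cfsg.Agent.S1067
import Cfsg.Agent.FastGrp
import Cfsg.Agent.Prune
set_option linter.all false

section
prune_inst 0x7ffcedf9ebb8b1dfffff7e77fedddfffffa9ffffafdff9fbffe8f3df3fdfe32b49c5fbad6fe090fe9fd6e01418b87b53fbffffffea6ffc7ffffdfff41ffbee5ff7ffb50851948c340f706ff68bf0778a7f3fffffffffffffffffffffffffffffffbfffffffff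

-- part: H765/KE/Model
section
prune_inst 0x120204440e200000000800220000004000004020040000050000000008c02220004200164101200001a884400080040000000100008000000008c0001180080048152063310ac08f00097001080400000000000000000000000000000000004000000000
set_option linter.all false
open scoped Cfsg.Agent.FastGrp

/-!
# The torus model for `Setup` (S4822, KE0; helper765)

`h : Setup hp p r e f σ g` (`H795.Core`): `G` a normal subgroup of the fixed points of the frame automorphism `σ` of `D.group k`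
containing the elements of `p`-power order; `w` in the Weyl group; `Lam hp p (r ^ e) g w` as in `H440.TD4.Model`.

* `exists_raw` : the elements `X c` of `G` with `f (X c) = u t_c u⁻¹`, `t_c` in the torus with characters `x ↦ ζ ^ (lam c x)`;
* `exists_modelS` : `ModelS`: `X` is a homomorphism, injective, of exponent `p` on `Lam`, fusion is controlled by the Weyl group,
  and (`p ∤ |W|`) for a root `α` trivial on `X c` but not on `X b` there is a `p'`-element centralizing `X c` which normalizes but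
  does not centralize a `p`-subgroup of `C_G(X c)`;
* `ModelS.two_le_rank` : in that case `2 ≤ l(B₀(C_G(X c)))`; `ModelS.two_le_rank_top` : `2 ≤ l(B₀(G))`.
-/

set_option autoImplicit false
set_option linter.unusedSectionVars false

namespace Cfsg.Agent.H765.KE

open CoxeterSystem Cfsg Cfsg.Lie Cfsg.Lie.ChevalleyDatum
open Cfsg.Agent.ChevalleyStructure Cfsg.Agent.ChevalleyStructure.Elts Cfsg.Agent.ChevalleyStructure.CoxeterGeom
  Cfsg.Agent.ChevalleyStructure.CoxeterGeomTypes Cfsg.Agent.ChevalleyStructure.NPerm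
open Cfsg.Agent.Tits.Roots Cfsg.Agent.Tits.Core Cfsg.Agent.Nodes Cfsg.Agent.Nodes.Reps Cfsg.Agent.Nodes.BNOf
  Cfsg.Agent.Nodes.RGDChev Cfsg.Agent.Nodes.Bruhat
open Cfsg.Agent.KFacts.RgdField Cfsg.Agent.KFacts.RgdChevCoord Cfsg.Agent.BpExc.TorCent Cfsg.Agent.BpExc.TorChev
open Cfsg.Agent.GpExc.Field Cfsg.Agent.BpExc.Tow Cfsg.Agent.BpExc.TowChev Cfsg.Agent.BpExc.Fr
  Cfsg.Agent.BpExc.LangFr Cfsg.Agent.H795.SetCent Cfsg.Agent.H795.Toral Cfsg.Agent.H795.Core
  Cfsg.Agent.H795.RootConn Cfsg.Agent.H795.SetTor Cfsg.Agent.H129.TorusChar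
  Cfsg.Agent.H795.Reduce Cfsg.Agent.H795.LangT Cfsg.Agent.H123.ExcZ
  Cfsg.Agent.BpExc Cfsg.Agent.H210.EL Cfsg.Agent.H440.TD4 Cfsg.Agent.H795

universe u v

variable {D : ChevalleyDatum} {l : ℕ} {M : CoxeterMatrix (Fin l)} (hp : IsType D l M)

/-- The model of the elements of order `p` of a torus. -/
structure ModelS (hp : IsType D l M) (p Q : ℕ) (g : (Fin l → ℤ) ≃+ (Fin l → ℤ)) (w : M.Group) {G : Type v} [Group G]
    (X : (Fin l → ZMod p) → G) : Prop where
  add : ∀ c ∈ Lam hp p Q g w, ∀ c' ∈ Lam hp p Q g w, X (c + c') = X c * X c'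
  inj : ∀ c ∈ Lam hp p Q g w, X c = 1 → c = 0
  pow : ∀ c ∈ Lam hp p Q g w, X c ^ p = 1
  fus : ∀ c ∈ Lam hp p Q g w, ∀ c' ∈ Lam hp p Q g w, ∀ h : G, h * X c * h⁻¹ = X c' →
    ∃ w' : M.Group, ∀ x, lam c' (rep M.toCoxeterSystem hp.isCartan w' x) = lam c x
  refl : ∀ c ∈ Lam hp p Q g w, ∀ b ∈ Lam hp p Q g w, ∀ α, IsRoot M.toCoxeterSystem hp.isCartan α → lam c α = 0 →
    lam b α ≠ 0 → ∃ (P : Subgroup G) (n : G), IsPGroup p ↥P ∧ (∀ y ∈ P, y * X c = X c * y) ∧ n * X c = X c * n ∧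
      ¬ p ∣ orderOf n ∧ (∀ y ∈ P, n * y * n⁻¹ ∈ P) ∧ ∃ y ∈ P, n * y ≠ y * n

section

variable {k : Type u} [Field k] [IsAlgClosed k] {r e : ℕ} [hr : Fact r.Prime] [CharP k r] (hk : LocFin k)
  {σ : MulAut ↥(D.group k)} {g : (Fin l → ℤ) ≃+ (Fin l → ℤ)}

include hp hr hk in
/-- families of elements of the torus which are conjugate in `D.group k` are conjugate under the Weyl group -/
theorem exists_weyl_fam {ι : Type} [Finite ι] {s t : ι → ↥(D.group k)} {c : ↥(D.group k)} (hs : ∀ i, s i ∈ TT D k)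
    (ht : ∀ i, t i ∈ TT D k) (hc : ∀ i, c * s i = t i * c) :
    ∃ w : M.Group, ∀ i x, cX hp (t i) (rep M.toCoxeterSystem hp.isCartan w x) = cX hp (s i) x := by
  have hWf := finite_W hp (M.toCoxeterSystem)
  have H := tow hp M.toCoxeterSystem hk r
  have C : Coords M.toCoxeterSystem hp.isCartan (TL (Tj hp (k := k))) (nc hp k) (XL (Xj hp)) (xc hp) (ch hp) := by
    rw [TL_eq hp hk, XL_eq hp hk]
    exact coordsL hp M.toCoxeterSystem hk r
  have hGt := GG_eq_top hp M.toCoxeterSystem hk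
  have hTL := TL_eq (k := k) hp hk
  obtain ⟨m, hm, w, n, hn, hns, -⟩ := exists_form' H C (ι := ι) (s := s) (t := t)
    (fun i => by rw [hTL]; exact hs i) (fun i => by rw [hTL]; exact ht i) (c := c)
    (by rw [hGt]; exact Subgroup.mem_top _) hc
  refine ⟨w, fun i x => ?_⟩
  rw [← cX_rp' hp hk hn (hs i) x, hns i, mul_inv_cancel_right]

include hk in
/-- **The elements of the model.** -/
theorem exists_raw {p : ℕ} [hpp : Fact p.Prime] (hpr : p ≠ r) {d : ℕ} {B : Fin l → Fin l → ℤ} (hB : InvC D l d B)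
    (hd : d ≠ 0) {G : Type v} [Group G] {f : G →* ↥(D.group k)} (h : Setup hp p r e f σ g) (w : M.Group) :
    ∃ (ζ : k) (t : (Fin l → ZMod p) → ↥(D.group k)) (u : ↥(D.group k)) (X : (Fin l → ZMod p) → G),
      IsPrimitiveRoot ζ p ∧ (∀ c, t c ∈ TT D k) ∧ (∀ c x, cX hp (t c) x = chr ζ c x) ∧
      (∀ c ∈ Lam hp p (r ^ e) g w, f (X c) = u * t c * u⁻¹) := by
  classical
  have hp1 : p.Prime := hpp.out
  -- the root of unity
  have hpk : (p : k) ≠ 0 := by
    intro h
    have h1 := (CharP.cast_eq_zero_iff k r p).1 h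
    exact hpr.symm ((Nat.prime_dvd_prime_iff_eq hr.out hp1).1 h1)
  have : NeZero (p : k) := ⟨hpk⟩
  obtain ⟨ζ, hζ⟩ := HasEnoughRootsOfUnity.exists_primitiveRoot k p
  have hζp : ζ ^ p = 1 := hζ.pow_eq_one
  -- the torus elements
  have hex : ∀ c : Fin l → ZMod p, ∃ t ∈ TT D k, ∀ x, cX hp t x = chr ζ c x := fun c =>
    exists_cX hp (k := k) hB hd (isMC_chr hζp c) (fun i => IsAlgClosed.exists_pow_nat_eq _ (Nat.pos_of_ne_zero hd))
  choose t ht hX using hex
  -- the frame automorphism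
  have H := tow hp M.toCoxeterSystem hk r
  obtain ⟨nw, hnw⟩ := exists_rp M.toCoxeterSystem H.nsys w
  obtain ⟨u, hu⟩ := lang_all hp M.toCoxeterSystem h.e_pos h.frob h.fr 1 nw
  have hu' : nw = u⁻¹ * σ u := by
    rw [map_one, one_mul] at hu
    exact hu
  have Fr1 : Fr M.toCoxeterSystem hp.isCartan (TT D k) (XX D l k) (ct σ u)
      (g.trans (repAut M.toCoxeterSystem hp.isCartan w)) := by
    have h1 := Fr.conj H (by rw [hu'] at hnw; exact hnw : Rp M.toCoxeterSystem H.nsys w (u⁻¹ * σ u))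
    rw [TL_eq hp hk, XL_eq hp hk] at h1
    exact h1.mul h.fr
  have hσ1 : IsFrob r e (ct σ u) := h.frob.conj_mul _
  have hg1 : ∀ x, (g.trans (repAut M.toCoxeterSystem hp.isCartan w)) x =
      rep M.toCoxeterSystem hp.isCartan w (g x) := fun x => rfl
  -- fixed
  have hfixt : ∀ c ∈ Lam hp p (r ^ e) g w, ct σ u (t c) = t c := by
    intro c hcw
    refine cX_inj hp ((Fr1.tor (t c)).2 (ht c)) (ht c) fun i => ?_
    obtain ⟨y, hy⟩ := (g.trans (repAut M.toCoxeterSystem hp.isCartan w)).surjective (sr i)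
    rw [← hy, cX_sigma hp M.toCoxeterSystem hσ1 Fr1 (ht c), hX, hX, hg1]
    unfold chr
    rw [hcw y, pow_val_cast hζp]
  have htp : ∀ c, t c ^ p = 1 := by
    intro c
    refine cX_inj hp (pow_mem (ht c) p) (one_mem _) fun i => ?_
    rw [cX_pow hp (ht c), cX_one, hX]
    unfold chr
    rw [← pow_mul, mul_comm, pow_mul, hζp, one_pow]
  have hexX : ∀ c : Fin l → ZMod p, ∃ x : G, c ∈ Lam hp p (r ^ e) g w → f x = u * t c * u⁻¹ := by
    intro c
    by_cases hc : c ∈ Lam hp p (r ^ e) g w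
    · obtain ⟨x, hx⟩ := h.p_mem _ (ct_fix.1 (hfixt c hc)) ⟨1, by
        rw [pow_one, conj_pow, htp, mul_one, mul_inv_cancel]⟩
      exact ⟨x, fun _ => hx⟩
    · exact ⟨1, fun h => absurd h hc⟩
  choose X hXf using hexX
  exact ⟨ζ, t, u, X, hζ, ht, hX, hXf⟩

end

/-! ### the group theoretic part -/

/-- the `p'`-part of an element normalizing but not centralizing a `p`-subgroup -/
theorem exists_p' {G : Type v} [Group G] [Finite G] {p : ℕ} [hpp : Fact p.Prime] (S : Sylow p G)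
    (hS : IsMulCommutative (S : Subgroup G)) {n x s : G} (hn : n ∈ Subgroup.normalizer ((S : Subgroup G) : Set G))
    (hnx : n * x = x * n) (hs : s ∈ (S : Subgroup G)) (hns : n * s * n⁻¹ ≠ s) :
    ∃ m : G, m * x = x * m ∧ ¬ p ∣ orderOf m ∧ (∀ y ∈ (S : Subgroup G), m * y * m⁻¹ ∈ (S : Subgroup G)) ∧
      m * s ≠ s * m := by
  obtain ⟨a, m, hm, hnm⟩ := Nat.exists_eq_pow_mul_and_not_dvd (orderOf_pos n).ne' p hpp.out.ne_one
  -- `n ^ m ∈ S`
  have h1 : n ^ m ∈ (S : Subgroup G) := by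
    refine mem_sylow_of_normalizer (k := a) S ?_ (pow_mem hn m)
    rw [← pow_mul, mul_comm, ← hnm, pow_orderOf_eq_one]
  -- Bezout
  have hcop : (p ^ a).Coprime m := Nat.Coprime.pow_left _ ((Nat.Prime.coprime_iff_not_dvd hpp.out).2 hm)
  have hpow : ∀ j : ℕ, Commute (n ^ j) x := fun j => (show Commute n x from hnx).pow_left j
  have hm0 : m ≠ 0 := fun h0 => hm (h0 ▸ dvd_zero p)
  refine ⟨n ^ p ^ a, hpow _, ?_, ?_, ?_⟩
  · have h2 : orderOf (n ^ p ^ a) = m := by
      rw [orderOf_pow' n (pow_ne_zero _ hpp.out.ne_zero), hnm, Nat.gcd_mul_right_left]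
      exact Nat.mul_div_cancel_left _ (pow_pos hpp.out.pos a)
    rw [h2]
    exact hm
  · intro y hy
    exact (Subgroup.mem_normalizer_iff.1 (pow_mem hn (p ^ a)) y).1 hy
  · intro hcomm
    apply hns
    -- `n` is a product of powers of `n ^ p ^ a` and `n ^ m`
    have h2 : Commute (n ^ m) s := H795.comm_of hS h1 hs
    have h3 : Commute (n ^ p ^ a) s := hcomm
    have h4 : Commute n s := by
      obtain ⟨u, v, huv⟩ : ∃ u v : ℤ, (p ^ a : ℕ) * u + m * v = 1 := by
        have := Nat.gcd_eq_gcd_ab (p ^ a) m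
        rw [hcop] at this
        exact ⟨_, _, this.symm⟩
      have h5 : n = (n ^ p ^ a) ^ u * (n ^ m) ^ v := by
        rw [← zpow_natCast, ← zpow_natCast, ← zpow_mul, ← zpow_mul, ← zpow_add, huv, zpow_one]
      rw [h5]
      exact (h3.zpow_left u).mul_left (h2.zpow_left v)
    rw [h4.eq, mul_inv_cancel_right]

section

variable {k : Type u} [Field k] [IsAlgClosed k] {r e : ℕ} [hr : Fact r.Prime] [CharP k r] (hk : LocFin k)
  {σ : MulAut ↥(D.group k)} {g : (Fin l → ℤ) ≃+ (Fin l → ℤ)}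

include hp hr hk in
/-- the Sylow `p`-subgroups are toral -/
theorem toral {p : ℕ} [hpp : Fact p.Prime] (hpr : p ≠ r) (hW : ¬ p ∣ Nat.card M.Group) {G : Type v} [Group G]
    [Finite G] (f : G →* ↥(D.group k)) (S : Sylow p G) :
    ∃ z : ↥(D.group k), ∀ x ∈ (S : Subgroup G), z⁻¹ * f x * z ∈ TT D k := by
  have hfin : Finite ↥((S : Subgroup G).map f) :=
    Finite.of_surjective (fun u : ↥(S : Subgroup G) => (⟨f u, ⟨u, u.2, rfl⟩⟩ : ↥((S : Subgroup G).map f))) (by
      rintro ⟨_, ⟨u, hu, rfl⟩⟩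
      exact ⟨⟨u, hu⟩, rfl⟩)
  obtain ⟨g, hg⟩ := H795.TorSub.exists_toral_of_not_dvd hp r hk hpp.out hpr hW (Q := (S : Subgroup G).map f) (S.2.map f)
  refine ⟨g⁻¹, fun x hx => ?_⟩
  rw [inv_inv]
  exact hg _ ⟨x, hx, rfl⟩

include hp hr hk in
/-- the Sylow `p`-subgroups are abelian -/
theorem sylow_comm {p : ℕ} [hpp : Fact p.Prime] (hpr : p ≠ r) (hW : ¬ p ∣ Nat.card M.Group) {G : Type v} [Group G]
    [Finite G] {f : G →* ↥(D.group k)} (hf : Function.Injective f) (S : Sylow p G) :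
    IsMulCommutative (S : Subgroup G) := by
  obtain ⟨z, hz⟩ := toral hp hk hpr hW f S
  refine isMulCommutative_of fun a ha b hb => ?_
  apply hf
  have h1 := TT_comm hp (K := k) _ (hz a ha) _ (hz b hb)
  rw [map_mul, map_mul]
  calc f a * f b = z * ((z⁻¹ * f a * z) * (z⁻¹ * f b * z)) * z⁻¹ := by group
    _ = z * ((z⁻¹ * f b * z) * (z⁻¹ * f a * z)) * z⁻¹ := by rw [h1]
    _ = f b * f a := by group

include hk in
/-- **The torus model for `Setup`.** -/
theorem exists_modelS {p : ℕ} [hpp : Fact p.Prime] (hp2 : p ≠ 2) (hpr : p ≠ r) (hW : ¬ p ∣ Nat.card M.Group) {d : ℕ}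
    {B : Fin l → Fin l → ℤ} (hB : InvC D l d B) (hd : d ≠ 0) {G : Type v} [Group G] [Finite G]
    {f : G →* ↥(D.group k)} (h : Setup hp p r e f σ g) (w : M.Group) :
    ∃ X : (Fin l → ZMod p) → G, ModelS hp p (r ^ e) g w X := by
  classical
  obtain ⟨ζ, t, u, X, hζ, ht, hX, hXf⟩ := exists_raw hp hk hpr hB hd h w
  have hζp : ζ ^ p = 1 := hζ.pow_eq_one
  have hζinj : ∀ a b : ZMod p, ζ ^ a.val = ζ ^ b.val → a = b := by
    intro a b h
    exact ZMod.val_injective p (hζ.pow_inj (ZMod.val_lt a) (ZMod.val_lt b) h)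
  have hinj := h.inj
  have ht_add : ∀ c c', t (c + c') = t c * t c' := by
    intro c c'
    refine cX_inj hp (ht _) (mul_mem (ht _) (ht _)) fun i => ?_
    rw [cX_mul hp (ht _) (ht _), hX, hX, hX]
    unfold chr
    rw [lam_add', pow_val_add hζp]
  have ht_eq : ∀ c c' : Fin l → ZMod p, (∀ x, lam c x = lam c' x) → c = c' := by
    intro c c' h
    funext i
    have := h (sr i)
    rwa [lam_sr, lam_sr] at this
  have hadd : ∀ c ∈ Lam hp p (r ^ e) g w, ∀ c' ∈ Lam hp p (r ^ e) g w, X (c + c') = X c * X c' := by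
    intro c hc c' hc'
    apply hinj
    rw [map_mul, hXf _ (Lam.add hp hc hc'), hXf _ hc, hXf _ hc', ht_add]
    group
  have hpow : ∀ c ∈ Lam hp p (r ^ e) g w, X c ^ p = 1 := by
    intro c hc
    apply hinj
    rw [map_pow, map_one, hXf _ hc, conj_pow, conj_eq_one_iff]
    refine cX_inj hp (pow_mem (ht c) p) (one_mem _) fun i => ?_
    rw [cX_pow hp (ht c), cX_one, hX]
    unfold chr
    rw [← pow_mul, mul_comm, pow_mul, hζp, one_pow]
  refine ⟨X, hadd, ?_, hpow, ?_, ?_⟩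
  · intro c hc h1
    have h2 := hXf _ hc
    rw [h1, map_one] at h2
    have h3 : t c = 1 := by
      have h4 : u * t c * u⁻¹ = 1 := h2.symm
      rwa [conj_eq_one_iff] at h4
    refine ht_eq _ _ fun x => hζinj _ _ ?_
    have h4 := hX c x
    rw [h3, cX_one] at h4
    rw [show lam (0 : Fin l → ZMod p) x = 0 by unfold lam; simp, ZMod.val_zero, pow_zero]
    exact h4.symm
  · intro c hc c' hc' h hh
    have h1 := congrArg f hh
    rw [map_mul, map_mul, map_inv, hXf _ hc, hXf _ hc'] at h1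
    obtain ⟨w', hw'⟩ := exists_weyl (r := r) hp hk (ht c) (ht c') (c := u⁻¹ * f h * u) (by
      calc u⁻¹ * f h * u * t c = u⁻¹ * (f h * (u * t c * u⁻¹) * (f h)⁻¹) * f h * u := by group
        _ = u⁻¹ * (u * t c' * u⁻¹) * f h * u := by rw [h1]
        _ = t c' * (u⁻¹ * f h * u) := by group)
    refine ⟨w', fun x => hζinj _ _ ?_⟩
    have h2 := hw' x
    rw [hX, hX] at h2
    exact h2
  · intro c hc b hb α hα hcα hbα
    -- the group of all `X c`
    have h0 : (0 : Fin l → ZMod p) ∈ Lam hp p (r ^ e) g w := by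
      intro x
      rw [show ∀ y, lam (0 : Fin l → ZMod p) y = 0 from fun y => by unfold lam; simp,
        show ∀ y, lam (0 : Fin l → ZMod p) y = 0 from fun y => by unfold lam; simp, mul_zero]
    have hX0 : X 0 = 1 := by
      have h1 := hadd 0 h0 0 h0
      rw [add_zero] at h1
      exact (mul_eq_left.1 h1.symm)
    let E : Subgroup G :=
      { carrier := {z | ∃ c ∈ Lam hp p (r ^ e) g w, X c = z}
        one_mem' := ⟨0, h0, hX0⟩
        mul_mem' := by
          rintro _ _ ⟨c, hc, rfl⟩ ⟨c', hc', rfl⟩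
          exact ⟨c + c', Lam.add hp hc hc', hadd c hc c' hc'⟩
        inv_mem' := by
          rintro _ ⟨c, hc, rfl⟩
          have h1 : (-1 : ZMod p) • c ∈ Lam hp p (r ^ e) g w := Lam.smul hp _ hc
          refine ⟨(-1 : ZMod p) • c, h1, ?_⟩
          apply eq_inv_of_mul_eq_one_left
          rw [← hadd _ h1 _ hc, neg_one_smul, neg_add_cancel, hX0] }
    have hE : IsPGroup p ↥E := by
      rintro ⟨_, ⟨c, hc, rfl⟩⟩
      exact ⟨1, Subtype.ext (by rw [pow_one]; exact hpow c hc)⟩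
    obtain ⟨S, hES⟩ := hE.exists_le_sylow
    have hxS : X c ∈ (S : Subgroup G) := hES ⟨c, hc, rfl⟩
    have hyS : X b ∈ (S : Subgroup G) := hES ⟨b, hb, rfl⟩
    have hS := sylow_comm hp hk hpr hW hinj S
    obtain ⟨z, hz⟩ := toral hp hk hpr hW f S
    have hcf : ∀ y : G, cf f z 1 y = z⁻¹ * f y * z := by
      intro y
      rw [cf_apply, one_mul, inv_one, mul_one]
    have hcore := coreL_of_setup hp hk h hp2 hpr S hS hz
    -- the root
    obtain ⟨w', hw'⟩ := exists_weyl_fam (r := r) hp hk (ι := Bool)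
      (s := fun i => if i then t c else t b) (t := fun i => if i then cf f z 1 (X c) else cf f z 1 (X b))
      (c := z⁻¹ * u) (fun i => by cases i; exacts [ht b, ht c])
      (fun i => by
        cases i
        · show cf f z 1 (X b) ∈ _
          rw [hcf]; exact hz _ hyS
        · show cf f z 1 (X c) ∈ _
          rw [hcf]; exact hz _ hxS)
      (fun i => by
        cases i
        · show z⁻¹ * u * t b = cf f z 1 (X b) * (z⁻¹ * u)
          rw [hcf, hXf _ hb]; group
        · show z⁻¹ * u * t c = cf f z 1 (X c) * (z⁻¹ * u)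
          rw [hcf, hXf _ hc]; group)
    have hwc : ∀ x, cX hp (cf f z 1 (X c)) (rep M.toCoxeterSystem hp.isCartan w' x) = chr ζ c x := fun x => by
      rw [← hX]; exact hw' true x
    have hwb : ∀ x, cX hp (cf f z 1 (X b)) (rep M.toCoxeterSystem hp.isCartan w' x) = chr ζ b x := fun x => by
      rw [← hX]; exact hw' false x
    have hα' : IsRoot M.toCoxeterSystem hp.isCartan (rep M.toCoxeterSystem hp.isCartan w' α) := hα.act w'
    have hxT : cf f z 1 (X c) ∈ TT D k := by rw [hcf]; exact hz _ hxS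
    have hyT : cf f z 1 (X b) ∈ TT D k := by rw [hcf]; exact hz _ hyS
    have hchc : ch hp (rep M.toCoxeterSystem hp.isCartan w' α) (cf f z 1 (X c)) = 1 := by
      rw [← cX_root hp M.toCoxeterSystem hxT hα', hwc]
      unfold chr
      rw [hcα, ZMod.val_zero, pow_zero]
    have hchb : ch hp (rep M.toCoxeterSystem hp.isCartan w' α) (cf f z 1 (X b)) ≠ 1 := by
      rw [← cX_root hp M.toCoxeterSystem hyT hα', hwb]
      intro h1
      apply hbα
      apply hζinj
      rw [ZMod.val_zero, pow_zero]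
      exact h1
    have hrefl : Refl p (Subgroup.zpowers (X c)) := by
      by_contra hrf
      refine hchb (hcore (Subgroup.zpowers (X c)) ((Subgroup.zpowers_le).2 hxS) hrf _ hα' (fun x hx => ?_) _ hyS)
      obtain ⟨j, rfl⟩ : ∃ j : ℕ, X c ^ j = x := by
        rw [← mem_powers_iff_mem_zpowers] at hx
        exact hx
      rw [← cX_root hp M.toCoxeterSystem (by rw [map_pow]; exact pow_mem hxT j) hα', map_pow,
        cX_pow hp hxT, cX_root hp M.toCoxeterSystem hxT hα', hchc, one_pow]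
    obtain ⟨x', c', h1, h2, ⟨j, h3⟩, h4, h5⟩ := hrefl
    obtain ⟨n, hn, hnA, s, hs, -, hns⟩ := exists_reflection S hS (Subgroup.zpowers (X c))
      ((Subgroup.zpowers_le).2 hxS) h1 h2 h3 h4 h5
    have hnx : n * X c = X c * n := by
      have h6 := hnA (X c) (Subgroup.mem_zpowers _)
      rwa [mul_inv_eq_iff_eq_mul] at h6
    obtain ⟨m, hm1, hm2, hm3, hm4⟩ := exists_p' S hS hn hnx hs hns
    exact ⟨(S : Subgroup G), m, S.2, fun y hy => H795.comm_of hS hy hxS, hm1, hm2, hm3, s, hs, hm4⟩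

end

/-! ### ranks -/

section

variable {p Q : ℕ} [hpp : Fact p.Prime] {g : (Fin l → ℤ) ≃+ (Fin l → ℤ)} {w : M.Group} {G : Type v} [Group G]
  [Finite G] {X : (Fin l → ZMod p) → G} {Mi : Ideal AlgInt}

/-- **`2 ≤ l(B₀(C_G(X c)))` if a root is trivial on `X c`, but not on `X b`.** -/
theorem ModelS.two_le_rank {hp : IsType D l M} (m : ModelS hp p Q g w X) (hM : IsPModular p Mi)
    {c b : Fin l → ZMod p} (hc : c ∈ Lam hp p Q g w) (hb : b ∈ Lam hp p Q g w) {α : Fin l → ℤ}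
    (hα : IsRoot M.toCoxeterSystem hp.isCartan α) (h0 : lam c α = 0) (h1 : lam b α ≠ 0) :
    2 ≤ blockRank p (principalBlock Mi ↥(Subgroup.centralizer ({X c} : Set G))) := by
  obtain ⟨P, n, hP, hPc, hn, hnp, hnP, y, hy, hny⟩ := m.refl c hc b hb α hα h0 h1
  set C := Subgroup.centralizer ({X c} : Set G) with hC
  have hmem : ∀ z : G, z * X c = X c * z → z ∈ C := fun z hz => by
    rw [hC, Subgroup.mem_centralizer_singleton_iff]
    exact hz
  have hPC : P ≤ C := fun z hz => hmem z (hPc z hz)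
  refine H296.KB.two_le_rank hM (P.subgroupOf C) (hP.comap_of_injective _ C.subtype_injective)
    (⟨n, hmem n hn⟩ : ↥C) ?_ ?_ (⟨y, hPC hy⟩ : ↥C) ?_ ?_
  · rw [Subgroup.orderOf_mk]
    exact hnp
  · rintro ⟨z, hz⟩ hzP
    exact hnP z hzP
  · exact hy
  · intro h2
    exact hny (congrArg Subtype.val h2)

/-- **`2 ≤ l(B₀(G))`.** -/
theorem ModelS.two_le_rank_top {hp : IsType D l M} (m : ModelS hp p Q g w X) (hM : IsPModular p Mi)
    {b : Fin l → ZMod p} (hb : b ∈ Lam hp p Q g w) {α : Fin l → ℤ}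
    (hα : IsRoot M.toCoxeterSystem hp.isCartan α) (h1 : lam b α ≠ 0) :
    2 ≤ blockRank p (principalBlock Mi G) := by
  have h0 : ∀ y, lam (0 : Fin l → ZMod p) y = 0 := fun y => by unfold lam; simp
  have hc : (0 : Fin l → ZMod p) ∈ Lam hp p Q g w := fun x => by rw [h0, h0, mul_zero]
  obtain ⟨P, n, hP, -, -, hnp, hnP, y, hy, hny⟩ := m.refl 0 hc b hb α hα (h0 _) h1
  exact H296.KB.two_le_rank hM P hP n hnp hnP y hy hny

end

end Cfsg.Agent.H765.KE
end

-- part: H765/KE/Ord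
section
prune_inst 0x300001000400000000000000000000012000000000000000000200000000084000000000000000000000000000000000000000000000000000000000000000000000000080080000000000000000000000000000000000000000000000000000000000000
set_option linter.all false
open scoped Cfsg.Agent.FastGrp

-- part: H765/KE/Phi
section
/-!
# The multiplicity of a cyclotomic factor (S4822, KE0; helper765)

`θ` an automorphism of finite order `N` of `ℤ ^ l`, `p ∤ N`, with `n` linearly independent functionals modulo `p` in the eigenspace for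
the eigenvalue `Q`: then `n * φ(d) ≤ l`, `d` the order of `Q` modulo `p`.
-/

set_option autoImplicit false

namespace Cfsg.Agent.H765.KE

open Polynomial Matrix Cfsg.Agent.H210.EL Cfsg.Agent.Tits.Roots

/-- the characteristic polynomial of a matrix of finite order -/
theorem charpoly_dvd {l N : ℕ} (A : Matrix (Fin l) (Fin l) ℤ) (hA : A ^ N = 1) :
    A.charpoly ∣ (X ^ N - 1 : ℤ[X]) ^ l := by
  have h1 : (Matrix.scalar (Fin l) (X : ℤ[X])) ^ N - (C.mapMatrix A) ^ N =
      (Matrix.scalar (Fin l) (X : ℤ[X]) - C.mapMatrix A) *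
        ∑ i ∈ Finset.range N, (Matrix.scalar (Fin l) (X : ℤ[X])) ^ i * (C.mapMatrix A) ^ (N - 1 - i) := by
    refine (Commute.mul_geom_sum₂ ?_ N).symm
    exact Matrix.scalar_commute _ (fun r' => Commute.all _ _) _
  have h2 := congrArg Matrix.det h1
  rw [Matrix.det_mul] at h2
  have h3 : (Matrix.scalar (Fin l) (X : ℤ[X])) ^ N - (C.mapMatrix A) ^ N =
      Matrix.scalar (Fin l) (X ^ N - 1 : ℤ[X]) := by
    rw [← map_pow, ← map_pow, hA, map_one, map_sub, map_one]
  rw [h3, Matrix.scalar_apply, Matrix.det_diagonal, Finset.prod_const, Finset.card_univ, Fintype.card_fin] at h2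
  exact ⟨_, h2⟩

/-- **`n * φ(d) ≤ l`**, matrix form -/
theorem mul_totient_le {p l N n : ℕ} [hpp : Fact p.Prime] (hN : ¬ p ∣ N) (A : Matrix (Fin l) (Fin l) ℤ)
    (hA : A ^ N = 1) (Q : ZMod p) (v : Fin n → Fin l → ZMod p) (hv : LinearIndependent (ZMod p) v)
    (hev : ∀ i, (A.map (Int.cast : ℤ → ZMod p)).mulVec (v i) = Q • v i) :
    n * Nat.totient (orderOf Q) ≤ l := by
  classical
  rcases Nat.eq_zero_or_pos n with rfl | hn
  · simp
  have hN0 : N ≠ 0 := fun h => hN (h ▸ dvd_zero p)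
  have hNp : (N : ZMod p) ≠ 0 := by
    rw [Ne, ZMod.natCast_eq_zero_iff]
    exact hN
  set d := orderOf Q with hd
  -- the matrix modulo `p`
  let Ap : Matrix (Fin l) (Fin l) (ZMod p) := A.map (Int.castRingHom (ZMod p))
  have hAp : Ap ^ N = 1 := by
    have h1 := congrArg (fun B : Matrix (Fin l) (Fin l) ℤ => (Int.castRingHom (ZMod p)).mapMatrix B) hA
    simp only [map_pow, map_one] at h1
    exact h1
  have hev' : ∀ i, Ap.mulVec (v i) = Q • v i := hev
  -- `Q ^ N = 1`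
  have hQN : Q ^ N = 1 := by
    have h1 : ∀ j : ℕ, (Ap ^ j).mulVec (v ⟨0, hn⟩) = Q ^ j • v ⟨0, hn⟩ := by
      intro j
      induction j with
      | zero => rw [pow_zero, pow_zero, one_smul, Matrix.one_mulVec]
      | succ j ih => rw [pow_succ', ← Matrix.mulVec_mulVec, ih, Matrix.mulVec_smul, hev', smul_smul, pow_succ]
    have h2 := h1 N
    rw [hAp, Matrix.one_mulVec] at h2
    have h3 : v ⟨0, hn⟩ ≠ 0 := hv.ne_zero _
    obtain ⟨j, hj⟩ := Function.ne_iff.1 h3
    have h4 := congrFun h2 j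
    rw [Pi.smul_apply, smul_eq_mul] at h4
    exact (mul_eq_right₀ hj).1 h4.symm
  have hdN : d ∣ N := orderOf_dvd_of_pow_eq_one hQN
  have hd0 : 0 < d := Nat.pos_of_dvd_of_pos hdN (Nat.pos_of_ne_zero hN0)
  have hdp : (d : ZMod p) ≠ 0 := by
    rw [Ne, ZMod.natCast_eq_zero_iff]
    exact fun h => hN (h.trans hdN)
  have hprim : IsPrimitiveRoot Q d := IsPrimitiveRoot.orderOf Q
  -- multiplicity of `Q`
  set f := A.charpoly with hf
  have hfm : f.Monic := A.charpoly_monic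
  set F := f.map (Int.castRingHom (ZMod p)) with hF
  have hFc : F = Ap.charpoly := by rw [hF, hf]; exact (Matrix.charpoly_map A _).symm
  have hmult : n ≤ F.rootMultiplicity Q := by
    have h1 := LinearMap.finrank_eigenspace_le (Matrix.toLin' Ap) Q
    rw [Matrix.charpoly_toLin'] at h1
    rw [hFc]
    refine le_trans ?_ h1
    let v' : Fin n → ↥(Module.End.eigenspace (Matrix.toLin' Ap) Q) := fun i => ⟨v i, by
      rw [Module.End.mem_eigenspace_iff, Matrix.toLin'_apply, hev']⟩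
    have h2 : LinearIndependent (ZMod p) v' := by
      apply LinearIndependent.of_comp (Module.End.eigenspace (Matrix.toLin' Ap) Q).subtype
      exact hv
    have h3 := h2.fintype_card_le_finrank
    rwa [Fintype.card_fin] at h3
  -- the factorization
  have hΦ : Irreducible (cyclotomic d ℤ) := cyclotomic.irreducible hd0
  have hΦp : Prime (cyclotomic d ℤ) := hΦ.prime
  have hf0 : f ≠ 0 := hfm.ne_zero
  obtain ⟨μ, R, hR, hfR⟩ : ∃ (μ : ℕ) (R : ℤ[X]), ¬ cyclotomic d ℤ ∣ R ∧ f = cyclotomic d ℤ ^ μ * R := by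
    obtain ⟨R, h1, h2⟩ := (FiniteMultiplicity.of_prime_left hΦp hf0).exists_eq_pow_mul_and_not_dvd
    exact ⟨_, R, h2, h1⟩
  have hRd : R ∣ (∏ k ∈ N.divisors.erase d, cyclotomic k ℤ) ^ l := by
    have h1 : R ∣ (cyclotomic d ℤ) ^ l * (∏ k ∈ N.divisors.erase d, cyclotomic k ℤ) ^ l := by
      rw [← mul_pow, Finset.mul_prod_erase N.divisors (fun k => cyclotomic k ℤ) (Nat.mem_divisors.2 ⟨hdN, hN0⟩),
        prod_cyclotomic_eq_X_pow_sub_one (Nat.pos_of_ne_zero hN0)]
      exact (Dvd.intro_left _ hfR.symm).trans (charpoly_dvd A hA)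
    have h2 : IsRelPrime R (cyclotomic d ℤ ^ l) := by
      apply IsRelPrime.pow_right
      exact ((hΦ.isRelPrime_iff_not_dvd).2 hR).symm
    exact h2.dvd_of_dvd_mul_left h1
  -- `R(Q) ≠ 0`
  have hRQ : ¬ (R.map (Int.castRingHom (ZMod p))).IsRoot Q := by
    intro hroot
    have h1 : (((∏ k ∈ N.divisors.erase d, cyclotomic k ℤ) ^ l).map (Int.castRingHom (ZMod p))).IsRoot Q :=
      hroot.dvd (Polynomial.map_dvd _ hRd)
    rw [Polynomial.map_pow, Polynomial.map_prod, IsRoot.def, eval_pow, eval_prod] at h1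
    have h2 := eq_zero_of_pow_eq_zero h1
    obtain ⟨k, hk, hk0⟩ := Finset.prod_eq_zero_iff.1 h2
    rw [Finset.mem_erase, Nat.mem_divisors] at hk
    have hkp : NeZero (k : ZMod p) := ⟨by
      rw [Ne, ZMod.natCast_eq_zero_iff]
      exact fun h => hN (h.trans hk.2.1)⟩
    rw [map_cyclotomic_int] at hk0
    have h3 : IsPrimitiveRoot Q k := isRoot_cyclotomic_iff.1 hk0
    exact hk.1 (h3.eq_orderOf)
  -- the multiplicity of `Q` in `F`
  have hdne : NeZero (d : ZMod p) := ⟨hdp⟩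
  have hcm : (cyclotomic d (ZMod p)).rootMultiplicity Q ≤ 1 := by
    have h1 := (separable_cyclotomic d (ZMod p)).squarefree
    by_contra hcon
    push Not at hcon
    have h2 : (X - C Q) ^ 2 ∣ cyclotomic d (ZMod p) :=
      (pow_dvd_pow _ hcon).trans (pow_rootMultiplicity_dvd _ _)
    rw [pow_two] at h2
    exact not_isUnit_X_sub_C Q (h1 _ h2)
  have hle : n ≤ μ := by
    have h1 : F = cyclotomic d (ZMod p) ^ μ * R.map (Int.castRingHom (ZMod p)) := by
      rw [hF, hfR, Polynomial.map_mul, Polynomial.map_pow, map_cyclotomic_int]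
    have hF0 : F ≠ 0 := (hfm.map _).ne_zero
    rw [h1] at hmult hF0
    rw [rootMultiplicity_mul hF0, rootMultiplicity_eq_zero hRQ, add_zero] at hmult
    have h4 : cyclotomic d (ZMod p) ^ μ ≠ 0 := pow_ne_zero _ (cyclotomic_ne_zero _ _)
    have h5 : ∀ j : ℕ, (cyclotomic d (ZMod p) ^ j).rootMultiplicity Q ≤ j := by
      intro j
      induction j with
      | zero => rw [pow_zero, ← C_1, rootMultiplicity_C]
      | succ j ih =>
        rw [pow_succ, rootMultiplicity_mul (mul_ne_zero (pow_ne_zero _ (cyclotomic_ne_zero _ _))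
          (cyclotomic_ne_zero _ _))]
        omega
    exact hmult.trans (h5 μ)
  have hdeg := congrArg natDegree hfR
  have hR0 : R ≠ 0 := by
    rintro rfl
    exact hR (dvd_zero _)
  rw [natDegree_mul (pow_ne_zero _ (cyclotomic_ne_zero _ _)) hR0, natDegree_pow, natDegree_cyclotomic, hf,
    Matrix.charpoly_natDegree_eq_dim, Fintype.card_fin] at hdeg
  have := Nat.mul_le_mul_right (Nat.totient d) hle
  omega

/-- **`n * φ(d) ≤ l`** for functionals -/
theorem mul_totient_le' {p l N n : ℕ} [hpp : Fact p.Prime] (hN : ¬ p ∣ N) (θ : (Fin l → ℤ) →+ (Fin l → ℤ))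
    (hθ : ∀ x, θ^[N] x = x) (Q : ZMod p) (v : Fin n → Fin l → ZMod p) (hv : LinearIndependent (ZMod p) v)
    (hev : ∀ i x, lam (v i) (θ x) = Q * lam (v i) x) : n * Nat.totient (orderOf Q) ≤ l := by
  classical
  -- the matrix, rows `θ (sr j)`
  let A : Matrix (Fin l) (Fin l) ℤ := Matrix.of fun j n => θ (sr j) n
  have hvec : ∀ x : Fin l → ℤ, Matrix.vecMul x A = θ x := by
    intro x
    have h1 := ext_sr (A := Fin l → ℤ) (AddMonoidHom.mk' (fun x => Matrix.vecMul x A) fun x y => Matrix.add_vecMul A x y) θ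
      (fun i => by
        funext j
        show Matrix.vecMul (sr i) A j = _
        rw [Matrix.vecMul, dotProduct, Finset.sum_eq_single i]
        · rw [sr_self, one_mul]; rfl
        · intro j' _ hj'
          rw [sr_ne hj', zero_mul]
        · intro hi
          exact absurd (Finset.mem_univ i) hi) x
    exact h1
  have hpow : ∀ (j : ℕ) (x : Fin l → ℤ), Matrix.vecMul x (A ^ j) = θ^[j] x := by
    intro j
    induction j with
    | zero => intro x; rw [pow_zero, Matrix.vecMul_one]; rfl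
    | succ j ih => intro x; rw [pow_succ', ← Matrix.vecMul_vecMul, hvec, ih, Function.iterate_succ_apply]
  have hA : A ^ N = 1 := by
    apply Matrix.ext_of_single_vecMul
    intro i
    rw [hpow, hθ, Matrix.vecMul_one]
  refine mul_totient_le hN A hA Q v hv fun i => ?_
  funext j
  have h1 := hev i (sr j)
  rw [lam_sr] at h1
  rw [Pi.smul_apply, smul_eq_mul, ← h1]
  rfl

/-- the orders with `φ(d) ≤ 4` -/
theorem totient_le_four {d : ℕ} (h0 : d ≠ 0) (h : Nat.totient d ≤ 4) :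
    d = 1 ∨ d = 2 ∨ d = 3 ∨ d = 4 ∨ d = 5 ∨ d = 6 ∨ d = 8 ∨ d = 10 ∨ d = 12 := by
  have hpos : 0 < Nat.totient d := Nat.totient_pos.2 (Nat.pos_of_ne_zero h0)
  have key : ∀ m, m ∣ d → Nat.totient m ≤ 4 := fun m hm =>
    (Nat.le_of_dvd hpos (Nat.totient_dvd_of_dvd hm)).trans h
  have h120 : d ∣ 120 := by
    rw [Nat.dvd_iff_prime_pow_dvd_dvd]
    intro q k hq hqk
    rcases Nat.eq_zero_or_pos k with rfl | hk
    · simp
    have h1 := key q ((dvd_pow_self q hk.ne').trans hqk)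
    rw [Nat.totient_prime hq] at h1
    have hq5 : q ≤ 5 := by omega
    have h2 := hq.two_le
    have h3 : ∀ j, j ≤ k → Nat.totient (q ^ j) ≤ 4 := fun j hj => key _ ((pow_dvd_pow q hj).trans hqk)
    interval_cases q
    · have hk3 : k ≤ 3 := by
        by_contra hcon
        have := h3 4 (by omega)
        revert this
        decide
      exact (pow_dvd_pow 2 hk3).trans (by norm_num)
    · have hk3 : k ≤ 1 := by
        by_contra hcon
        have := h3 2 (by omega)
        revert this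
        decide
      exact (pow_dvd_pow 3 hk3).trans (by norm_num)
    · exact absurd hq (by norm_num)
    · have hk3 : k ≤ 1 := by
        by_contra hcon
        have := h3 2 (by omega)
        revert this
        decide
      exact (pow_dvd_pow 5 hk3).trans (by norm_num)
  have hmem : d ∈ Nat.divisors 120 := Nat.mem_divisors.2 ⟨h120, by norm_num⟩
  have hdec : ∀ m ∈ Nat.divisors 120, Nat.totient m ≤ 4 →
      m = 1 ∨ m = 2 ∨ m = 3 ∨ m = 4 ∨ m = 5 ∨ m = 6 ∨ m = 8 ∨ m = 10 ∨ m = 12 := by decide +kernel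
  exact hdec d hmem h

/-- the orders with `φ(d) ≤ 3` -/
theorem totient_le_three {d : ℕ} (h0 : d ≠ 0) (h : Nat.totient d ≤ 3) : d = 1 ∨ d = 2 ∨ d = 3 ∨ d = 4 ∨ d = 6 := by
  rcases totient_le_four h0 (by omega) with h1 | h1 | h1 | h1 | h1 | h1 | h1 | h1 | h1 <;> subst h1 <;>
    first | decide | (revert h; decide)

end Cfsg.Agent.H765.KE
end

-- part: H765/KE/Syl
section
/-!
# The rank of the Sylow `p`-subgroups (S4822, KE0; helper765)

`h : Setup hp p r e f σ g`, `p ∤ |W|`, `g` of finite order prime to `p`; `d` the order of `q = r ^ e` modulo `p`.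

* `rank_mul_totient_le` : `|Ω₁(S)| = p ^ n` implies `n * φ(d) ≤ l`;
* `two_mul_totient_le` : `2 * φ(d) ≤ l` if `S` is not cyclic.
-/

set_option autoImplicit false
set_option linter.unusedSectionVars false

namespace Cfsg.Agent.H765.KE

open CoxeterSystem Cfsg Cfsg.Lie Cfsg.Lie.ChevalleyDatum
open Cfsg.Agent.ChevalleyStructure Cfsg.Agent.ChevalleyStructure.Elts Cfsg.Agent.ChevalleyStructure.CoxeterGeom
  Cfsg.Agent.ChevalleyStructure.CoxeterGeomTypes Cfsg.Agent.ChevalleyStructure.NPerm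
open Cfsg.Agent.Tits.Roots Cfsg.Agent.Tits.Core Cfsg.Agent.Nodes Cfsg.Agent.Nodes.Reps Cfsg.Agent.Nodes.BNOf
  Cfsg.Agent.Nodes.RGDChev Cfsg.Agent.Nodes.Bruhat
open Cfsg.Agent.KFacts.RgdField Cfsg.Agent.KFacts.RgdChevCoord Cfsg.Agent.BpExc.TorCent Cfsg.Agent.BpExc.TorChev
open Cfsg.Agent.GpExc.Field Cfsg.Agent.BpExc.Tow Cfsg.Agent.BpExc.TowChev Cfsg.Agent.BpExc.Fr
  Cfsg.Agent.BpExc.LangFr Cfsg.Agent.H795.SetCent Cfsg.Agent.H795.Toral Cfsg.Agent.H795.Core
  Cfsg.Agent.H795.RootConn Cfsg.Agent.H795.SetTor Cfsg.Agent.H129.TorusChar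
  Cfsg.Agent.H795.Reduce Cfsg.Agent.H795.LangT Cfsg.Agent.H123.ExcZ
  Cfsg.Agent.BpExc Cfsg.Agent.H210.EL Cfsg.Agent.H440.TD4 Cfsg.Agent.H795

universe u v

variable {D : ChevalleyDatum} {l : ℕ} {M : CoxeterMatrix (Fin l)} (hp : IsType D l M)

section

variable {k : Type u} [Field k] [IsAlgClosed k] {r e : ℕ} [hr : Fact r.Prime] [CharP k r] (hk : LocFin k)
  {σ : MulAut ↥(D.group k)} {g : (Fin l → ℤ) ≃+ (Fin l → ℤ)}

include hk in
/-- the lattice automorphism of a frame automorphism normalizes the Weyl group -/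
theorem exists_twist {d : ℕ} {B : Fin l → Fin l → ℤ} (hB : InvC D l d B) (hd : d ≠ 0)
    (hσ : IsFrob r e σ) (F : Fr M.toCoxeterSystem hp.isCartan (TT D k) (XX D l k) σ g) (v : M.Group) :
    ∃ w : M.Group, ∀ x, rep M.toCoxeterSystem hp.isCartan w (g x) = g (rep M.toCoxeterSystem hp.isCartan v x) := by
  obtain ⟨n, hn⟩ := exists_rp M.toCoxeterSystem (tow hp M.toCoxeterSystem hk r).nsys v
  have hnT : ∀ t ∈ TT D k, n * t * n⁻¹ ∈ TT D k := fun t ht => rp_conj_mem hp hk hn ht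
  have hσT : ∀ s, σ s ∈ TT D k ↔ s ∈ TT D k := F.tor
  obtain ⟨w, hw⟩ := exists_rp_of_normalizes hp hk (r := r) (c := σ n) (fun t ht => by
    have h1 : σ⁻¹ t ∈ TT D k := by rw [← hσT, MulAut.apply_inv_self]; exact ht
    have h2 := (hσT _).2 (hnT _ h1)
    rwa [map_mul, map_mul, map_inv, MulAut.apply_inv_self] at h2)
  refine ⟨w, fun x => ?_⟩
  refine cX_sep hp (k := k) hB hd fun t' ht' => ?_
  -- `t' = σ(n t n⁻¹)`
  obtain ⟨t, ht, rfl⟩ : ∃ t ∈ TT D k, t' = σ (n * t * n⁻¹) := by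
    have h1 : σ⁻¹ t' ∈ TT D k := by rw [← hσT, MulAut.apply_inv_self]; exact ht'
    refine ⟨n⁻¹ * σ⁻¹ t' * n, ?_, ?_⟩
    · have h2 := rp_conj_mem hp hk hn.inv h1
      rwa [inv_inv] at h2
    · have h2 : n * (n⁻¹ * σ⁻¹ t' * n) * n⁻¹ = σ⁻¹ t' := by group
      rw [h2, MulAut.apply_inv_self]
  have h1 : cX hp (σ (n * t * n⁻¹)) (g (rep M.toCoxeterSystem hp.isCartan v x)) = cX hp t x ^ r ^ e := by
    rw [cX_sigma hp M.toCoxeterSystem hσ F (hnT t ht), cX_rp' hp hk hn ht]
  have h2 : cX hp (σ (n * t * n⁻¹)) (rep M.toCoxeterSystem hp.isCartan w (g x)) = cX hp t x ^ r ^ e := by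
    rw [map_mul, map_mul, map_inv, cX_rp' hp hk hw ((hσT t).2 ht), cX_sigma hp M.toCoxeterSystem hσ F ht]
  rw [h2, h1]

include hk in
/-- `rep w ∘ g` has order dividing `m |W|` if `g ^ m = 1` -/
theorem theta_iter {d : ℕ} {B : Fin l → Fin l → ℤ} (hB : InvC D l d B) (hd : d ≠ 0)
    (hσ : IsFrob r e σ) (F : Fr M.toCoxeterSystem hp.isCartan (TT D k) (XX D l k) σ g) (w : M.Group) {m : ℕ}
    (hm : ∀ x, g^[m] x = x) (x : Fin l → ℤ) :
    (fun y => rep M.toCoxeterSystem hp.isCartan w (g y))^[m * Nat.card M.Group] x = x := by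
  have h1 : ∀ j : ℕ, ∃ w' : M.Group, ∀ x, (fun y => rep M.toCoxeterSystem hp.isCartan w (g y))^[j] x =
      rep M.toCoxeterSystem hp.isCartan w' (g^[j] x) := by
    intro j
    induction j with
    | zero => exact ⟨1, fun x => by rw [map_one]; rfl⟩
    | succ j ih =>
      obtain ⟨w', hw'⟩ := ih
      obtain ⟨v, hv⟩ := exists_twist hp hk hB hd hσ F w'
      refine ⟨w * v, fun x => ?_⟩
      rw [Function.iterate_succ_apply', hw', Function.iterate_succ_apply', ← hv, rep_mul_apply]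
  obtain ⟨w', hw'⟩ := h1 m
  have h2 : ∀ (n : ℕ) (x : Fin l → ℤ), (fun y => rep M.toCoxeterSystem hp.isCartan w (g y))^[m * n] x =
      rep M.toCoxeterSystem hp.isCartan (w' ^ n) x := by
    intro n
    induction n with
    | zero => intro x; rw [mul_zero, pow_zero, map_one]; rfl
    | succ n ih => intro x; rw [mul_add, mul_one, Function.iterate_add_apply, hw', hm, ih, pow_succ, rep_mul_apply]
  rw [h2, pow_card_eq_one', map_one]
  rfl

include hk in
/-- **The elements of order `p` of a Sylow subgroup in an eigenspace.** -/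
theorem exists_lin {p : ℕ} [hpp : Fact p.Prime] (hpr : p ≠ r) (hW : ¬ p ∣ Nat.card M.Group)
    {G : Type v} [Group G] [Finite G] {f : G →* ↥(D.group k)} (h : Setup hp p r e f σ g) (S : Sylow p G)
    (hS : IsMulCommutative (S : Subgroup G)) :
    ∃ (w : M.Group) (φ : ↥(om p (S : Subgroup G) hS) → (Fin l → ZMod p)), Function.Injective φ ∧
      (∀ x y, φ (x * y) = φ x + φ y) ∧ ∀ x, φ x ∈ Lam hp p (r ^ e) g w := by
  classical
  have hp1 : p.Prime := hpp.out
  have hpk : (p : k) ≠ 0 := by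
    intro h
    have h1 := (CharP.cast_eq_zero_iff k r p).1 h
    exact hpr.symm ((Nat.prime_dvd_prime_iff_eq hr.out hp1).1 h1)
  have : NeZero (p : k) := ⟨hpk⟩
  obtain ⟨ζ, hζ⟩ := HasEnoughRootsOfUnity.exists_primitiveRoot k p
  have hζp : ζ ^ p = 1 := hζ.pow_eq_one
  have hζinj : ∀ a b : ZMod p, ζ ^ a.val = ζ ^ b.val → a = b := by
    intro a b h
    exact ZMod.val_injective p (hζ.pow_inj (ZMod.val_lt a) (ZMod.val_lt b) h)
  obtain ⟨z, hz⟩ := toral hp hk hpr hW f S
  obtain ⟨y, a, w, h1, h2, h3, h4, -⟩ := exists_frame hp hk r h.inj h.e_pos h.frob h.fr h.fix (p := p) h.p_mem S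
    ⟨z⁻¹, fun x hx => by rw [inv_inv]; exact hz x hx⟩
  let F : ↥(om p (S : Subgroup G) hS) → ↥(D.group k) := fun x => cf f y a x
  have hF : ∀ x, F x ∈ TT D k := fun x => h1 x x.2.1
  have hFm : ∀ x x', F (x * x') = F x * F x' := fun x x' => map_mul (cf f y a) _ _
  have hFp : ∀ x, F x ^ p = 1 := fun x => by
    show cf f y a x ^ p = 1
    rw [← map_pow, x.2.2, map_one]
  -- discrete logarithms
  have hex : ∀ (x : ↥(om p (S : Subgroup G) hS)) (i : Fin l), ∃ c : ZMod p, cX hp (F x) (sr i) = ζ ^ c.val := by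
    intro x i
    have h5 : cX hp (F x) (sr i) ^ p = 1 := by rw [← cX_pow hp (hF x), hFp, cX_one]
    obtain ⟨j, hj, hj'⟩ := hζ.eq_pow_of_pow_eq_one h5
    exact ⟨(j : ZMod p), by rw [ZMod.val_natCast, Nat.mod_eq_of_lt hj, hj']⟩
  choose φ hφ using hex
  have hchr : ∀ x b, cX hp (F x) b = chr ζ (φ x) b := by
    intro x b
    refine (isMC_cX hp (hF x)).ext (isMC_chr hζp _) (fun i => ?_) b
    rw [hφ]
    unfold chr
    rw [lam_sr]
  refine ⟨w, φ, ?_, ?_, ?_⟩
  · intro x x' hxx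
    have h5 : F x = F x' := by
      refine cX_inj hp (hF x) (hF x') fun i => ?_
      rw [hφ, hφ, hxx]
    exact Subtype.ext (cf_injective h.inj y a h5)
  · intro x x'
    funext i
    apply hζinj
    rw [← hφ, hFm, cX_mul hp (hF x) (hF x'), hφ, hφ, Pi.add_apply, pow_val_add hζp]
  · intro x b
    apply hζinj
    have h5 := cX_sigma hp M.toCoxeterSystem h3 h4 (hF x) b
    have h6 : ct σ y (F x) = F x := h2 x
    rw [h6, hchr, hchr] at h5
    rw [pow_val_cast hζp]
    exact h5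

include hk in
/-- **`n * φ(d) ≤ l`** if `|Ω₁(S)| = p ^ n`. -/
theorem rank_mul_totient_le {p : ℕ} [hpp : Fact p.Prime] (hpr : p ≠ r) (hW : ¬ p ∣ Nat.card M.Group) {d : ℕ}
    {B : Fin l → Fin l → ℤ} (hB : InvC D l d B) (hd : d ≠ 0) {G : Type v} [Group G] [Finite G]
    {f : G →* ↥(D.group k)} (h : Setup hp p r e f σ g) {m : ℕ} (hmp : ¬ p ∣ m) (hm : ∀ x, g^[m] x = x) (S : Sylow p G)
    (hS : IsMulCommutative (S : Subgroup G)) {n : ℕ} (hn : p ^ n ≤ Nat.card ↥(om p (S : Subgroup G) hS)) :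
    n * Nat.totient (orderOf ((r ^ e : ℕ) : ZMod p)) ≤ l := by
  classical
  obtain ⟨w, φ, hinj, hadd, hLam⟩ := exists_lin hp hk hpr hW h S hS
  -- the subspace
  let Φ : Additive ↥(om p (S : Subgroup G) hS) →+ (Fin l → ZMod p) :=
    AddMonoidHom.mk' (fun x => φ x.toMul) fun x y => hadd _ _
  let U : Submodule (ZMod p) (Fin l → ZMod p) := AddSubgroup.toZModSubmodule p Φ.range
  have hUcard : Nat.card U = Nat.card ↥(om p (S : Subgroup G) hS) := by
    have h1 : Nat.card U = Nat.card Φ.range := rfl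
    rw [h1]
    refine (Nat.card_congr (Equiv.ofBijective
      (fun x : ↥(om p (S : Subgroup G) hS) => (⟨φ x, ⟨Additive.ofMul x, rfl⟩⟩ : Φ.range)) ⟨?_, ?_⟩)).symm
    · intro x y hxy
      exact hinj (congrArg Subtype.val hxy)
    · rintro ⟨_, ⟨x, rfl⟩⟩
      exact ⟨x.toMul, rfl⟩
  have hfr : n ≤ Module.finrank (ZMod p) U := by
    have h1 := Module.natCard_eq_pow_finrank (K := ZMod p) (V := U)
    rw [hUcard, Nat.card_zmod] at h1
    rw [h1] at hn
    exact (Nat.pow_le_pow_iff_right hpp.out.one_lt).1 hn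
  have hle := mul_totient_le' (p := p) (N := m * Nat.card M.Group) (n := Module.finrank (ZMod p) U) (by
      intro h1
      rcases hpp.out.dvd_mul.1 h1 with h2 | h2
      · exact hmp h2
      · exact hW h2)
    ((rep M.toCoxeterSystem hp.isCartan w).toAddMonoidHom.comp g.toAddMonoidHom)
    (fun x => theta_iter hp hk hB hd h.frob h.fr w hm x) ((r ^ e : ℕ) : ZMod p)
    (fun i => ((Module.finBasis (ZMod p) U i : U) : Fin l → ZMod p))
    ((Module.finBasis (ZMod p) U).linearIndependent.map' U.subtype (Submodule.ker_subtype U))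
    (fun i x => by
      obtain ⟨y, hy⟩ := (Module.finBasis (ZMod p) U i).2
      have h1 := hLam y.toMul x
      have h2 : φ y.toMul = ((Module.finBasis (ZMod p) U i : U) : Fin l → ZMod p) := hy
      rw [h2] at h1
      exact h1)
  exact (Nat.mul_le_mul_right _ hfr).trans hle

include hk in
/-- **`2 * φ(d) ≤ l`** if the Sylow `p`-subgroup is not cyclic. -/
theorem two_mul_totient_le {p : ℕ} [hpp : Fact p.Prime] (hp2 : p ≠ 2) (hpr : p ≠ r) (hW : ¬ p ∣ Nat.card M.Group)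
    {d : ℕ} {B : Fin l → Fin l → ℤ} (hB : InvC D l d B) (hd : d ≠ 0) {G : Type v} [Group G] [Finite G]
    {f : G →* ↥(D.group k)} (h : Setup hp p r e f σ g) {m : ℕ} (hmp : ¬ p ∣ m) (hm : ∀ x, g^[m] x = x) (S : Sylow p G)
    (hnc : ¬ IsCyclic (S : Subgroup G)) : 2 * Nat.totient (orderOf ((r ^ e : ℕ) : ZMod p)) ≤ l := by
  have hS := sylow_comm hp hk hpr hW h.inj S
  refine rank_mul_totient_le hp hk hpr hW hB hd h hmp hm S hS ?_
  obtain ⟨A, -, hA, hcard⟩ := S0126.result hp2 S.2 hnc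
  rw [← hcard]
  refine Nat.card_le_card_of_injective
    (fun x : A => (⟨((x : ↥(S : Subgroup G)) : G), (x : ↥(S : Subgroup G)).2,
      congrArg Subtype.val (hA.2 x x.2)⟩ : ↥(om p (S : Subgroup G) hS))) ?_
  intro x y hxy
  exact Subtype.ext (Subtype.ext (congrArg (fun z : ↥(om p (S : Subgroup G) hS) => (z : G)) hxy))

end

end Cfsg.Agent.H765.KE
end

-- part: H765/KE/Ord
section
/-!
# The order of `q` modulo `p` for noncyclic Sylow `p`-subgroups (S4822, KE0; helper765)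

`ord_G2`, `ord_F4`, `ord_E6`, `ord_E7`, `ord_E8`, `ord_2E6`, `ord_3D4`; `rank_le_two_E8`.
-/

set_option autoImplicit false
set_option linter.unusedSectionVars false

namespace Cfsg.Agent.H765.KE

open CoxeterSystem Cfsg Cfsg.Lie Cfsg.Lie.ChevalleyDatum
open Cfsg.Agent.ChevalleyStructure Cfsg.Agent.ChevalleyStructure.Elts Cfsg.Agent.ChevalleyStructure.CoxeterGeom
  Cfsg.Agent.ChevalleyStructure.CoxeterGeomTypes Cfsg.Agent.ChevalleyStructure.NPerm
open Cfsg.Agent.Tits.Roots Cfsg.Agent.Tits.Core Cfsg.Agent.Nodes Cfsg.Agent.Nodes.Reps Cfsg.Agent.Nodes.BNOf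
  Cfsg.Agent.Nodes.RGDChev Cfsg.Agent.Nodes.Bruhat
open Cfsg.Agent.KFacts.RgdField Cfsg.Agent.KFacts.RgdChevCoord Cfsg.Agent.BpExc.TorCent Cfsg.Agent.BpExc.TorChev
open Cfsg.Agent.GpExc.Field Cfsg.Agent.BpExc.Tow Cfsg.Agent.BpExc.TowChev Cfsg.Agent.BpExc.Fr
  Cfsg.Agent.BpExc.LangFr Cfsg.Agent.H795.SetCent Cfsg.Agent.H795.Toral Cfsg.Agent.H795.Core
  Cfsg.Agent.H795.RootConn Cfsg.Agent.H795.SetTor Cfsg.Agent.H129.TorusChar Cfsg.Agent.H129.TorusUntw
  Cfsg.Agent.H795.Reduce Cfsg.Agent.H795.LangT Cfsg.Agent.H123.ExcZ Cfsg.Agent.H720.TwFr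
  Cfsg.Agent.BpExc Cfsg.Agent.H210.EL Cfsg.Agent.H440.TD4 Cfsg.Agent.H795 Cfsg.Agent.H795.Untw
  Cfsg.Agent.H795.RowsA Cfsg.Agent.BpExc.RowsUntw Cfsg.Agent.H795.Tw

universe u v

/-- transport of noncyclic Sylow subgroups along an isomorphism -/
theorem nc_equiv {p : ℕ} [hpp : Fact p.Prime] {S : Type v} [Group S] [Finite S] {G : Type u} [Group G] [Finite G]
    (e : Nonempty (S ≃* G)) (hnc : ∀ P : Sylow p S, ¬ IsCyclic (P : Subgroup S)) (P : Sylow p G) :
    ¬ IsCyclic (P : Subgroup G) := by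
  obtain ⟨e⟩ := e
  intro hc
  let P' : Sylow p S := P.comapOfInjective e.toMonoidHom e.injective (by
    rw [MonoidHom.range_eq_top.2 e.surjective]
    exact le_top)
  have hmem : ∀ x : S, x ∈ (P' : Subgroup S) → e x ∈ (P : Subgroup G) := fun x hx => hx
  let φ : ↥(P' : Subgroup S) →* ↥(P : Subgroup G) :=
    { toFun := fun x => ⟨e x, hmem x x.2⟩
      map_one' := Subtype.ext (map_one e)
      map_mul' := fun x y => Subtype.ext (map_mul e _ _) }
  exact hnc P' (isCyclic_of_injective φ fun x y hxy => Subtype.ext (e.injective (congrArg Subtype.val hxy)))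

section

variable {D : ChevalleyDatum} {l : ℕ} {M : CoxeterMatrix (Fin l)} (hp : IsType D l M)

include hp in
/-- the untwisted groups -/
theorem two_mul_totient_untw {F : Type u} [Field F] [Fintype F] {p : ℕ} [hpp : Fact p.Prime] (h5 : 5 ≤ p)
    (hpF : (p : F) ≠ 0) {d : ℕ} {B : Fin l → Fin l → ℤ}
    (hB : InvC D l d B) (hd : d ≠ 0) (hd1 : d = 1 ∨ d.Prime) (hpd : ¬ p ∣ d) (hW : ¬ p ∣ Nat.card M.Group)
    (P : Sylow p ↥(D.group F)) (hnc : ¬ IsCyclic (P : Subgroup ↥(D.group F))) :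
    orderOf ((Fintype.card F : ℕ) : ZMod p) ≠ 0 ∧
      2 * Nat.totient (orderOf ((Fintype.card F : ℕ) : ZMod p)) ≤ l := by
  obtain ⟨r, e, hr, hrF, hrk, he, hq, hk⟩ := exists_closure (F := F) rfl
  have hpr : p ≠ r := by
    rintro rfl
    exact hpF (CharP.cast_eq_zero F p)
  have hset := setup_untw hp hk (algebraMap F (AlgebraicClosure F)) he hq hB hd hd1 (p := p) hpd
  have hGf : Finite ↥(D.group F) := inferInstance
  have h1 := two_mul_totient_le hp hk (by omega) hpr hW hB hd hset (m := 1)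
    (fun h1 => by have := Nat.le_of_dvd one_pos h1; omega) (fun x => rfl) P hnc
  rw [← hq] at h1
  refine ⟨?_, h1⟩
  have h2 : ((Fintype.card F : ℕ) : ZMod p) ≠ 0 := by
    rw [hq, Ne, ZMod.natCast_eq_zero_iff]
    intro h3
    exact hpr ((Nat.prime_dvd_prime_iff_eq hpp.out hr.out).1 (hpp.out.dvd_of_dvd_pow h3))
  exact (orderOf_pos_iff.2 (isOfFinOrder_iff_pow_eq_one.2 ⟨p - 1, by have := hpp.out.two_le; omega,
    ZMod.pow_card_sub_one_eq_one h2⟩)).ne'

end

section rows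

variable {r : ℕ} [hr : Fact r.Prime] {F : Type u} [Field F] [Fintype F] [CharP F r] {p : ℕ} [hpp : Fact p.Prime]
  {S : Type v} [Group S] [Finite S]

include hr hpp in
theorem cast_ne_zero (hrp : r ≠ p) : (p : F) ≠ 0 := by
  intro h
  have h1 := (CharP.cast_eq_zero_iff F r p).1 h
  exact hrp ((Nat.prime_dvd_prime_iff_eq hr.out hpp.out).1 h1)

theorem ord_E6 (hrp : r ≠ p) (h11 : 11 ≤ p) (e : Nonempty (S ≃* ↥(chevE6.group F)))
    (hnc : ∀ P : Sylow p S, ¬ IsCyclic (P : Subgroup S)) {d : ℕ} (hd : d = orderOf ((Fintype.card F : ℕ) : ZMod p)) :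
    d = 1 ∨ d = 2 ∨ d = 3 ∨ d = 4 ∨ d = 6 := by
  subst hd
  have := finW e6T
  have h : ¬ p ∣ Nat.card CoxeterMatrix.E₆.Group := by
    rw [card_E6]
    intro h
    have := dvd_51840 hpp.out (by omega) h
    omega
  obtain ⟨h0, h1⟩ := two_mul_totient_untw e6T (by omega) (cast_ne_zero hrp) invC_E6 three_ne_zero
    (Or.inr Nat.prime_three) (not_dvd_small (by omega) three_ne_zero (by norm_num)) h default (nc_equiv e hnc default)
  exact totient_le_three h0 (by omega)

theorem not_dvd_E8 (h11 : 11 ≤ p) : ¬ p ∣ Nat.card CoxeterMatrix.E₈.Group := by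
  rw [card_E8]
  intro h
  have := dvd_696729600 hpp.out (by omega) h
  omega

theorem ord_E8 (hrp : r ≠ p) (h11 : 11 ≤ p) (e : Nonempty (S ≃* ↥(chevE8.group F)))
    (hnc : ∀ P : Sylow p S, ¬ IsCyclic (P : Subgroup S)) {d : ℕ} (hd : d = orderOf ((Fintype.card F : ℕ) : ZMod p)) :
    d = 1 ∨ d = 2 ∨ d = 3 ∨ d = 4 ∨ d = 5 ∨ d = 6 ∨ d = 8 ∨ d = 10 ∨ d = 12 := by
  subst hd
  have := finW e8T
  obtain ⟨h0, h1⟩ := two_mul_totient_untw e8T (by omega) (cast_ne_zero hrp) invC_E8 one_ne_zero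
    (Or.inl rfl) (not_dvd_small (by omega) one_ne_zero (by norm_num)) (not_dvd_E8 h11) default
    (nc_equiv e hnc default)
  exact totient_le_four h0 (by omega)

/-- `p ∤ q` for the twisted groups -/
theorem cast_q_ne_zero (hrp : r ≠ p) {q m : ℕ} (hF : Fintype.card F = q ^ m) (hm : m ≠ 0) :
    orderOf ((q : ℕ) : ZMod p) ≠ 0 := by
  have hpF : (p : F) ≠ 0 := cast_ne_zero hrp
  have h2 : ((q : ℕ) : ZMod p) ≠ 0 := by
    rw [Ne, ZMod.natCast_eq_zero_iff]
    intro h3
    have h4 : p ∣ Fintype.card F := by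
      rw [hF]
      exact h3.trans (dvd_pow_self q hm)
    obtain ⟨c, hc⟩ := h4
    obtain ⟨n, -, hn⟩ := FiniteField.card F r
    rw [hn] at hc
    have h5 : p ∣ r ^ (n : ℕ) := Dvd.intro c hc.symm
    exact hrp ((Nat.prime_dvd_prime_iff_eq hpp.out hr.out).1 (hpp.out.dvd_of_dvd_pow h5)).symm
  exact (orderOf_pos_iff.2 (isOfFinOrder_iff_pow_eq_one.2 ⟨p - 1, by have := hpp.out.two_le; omega,
    ZMod.pow_card_sub_one_eq_one h2⟩)).ne'

theorem ord_2E6 (hrp : r ≠ p) (h11 : 11 ≤ p) {q : ℕ} (hq : IsPrimePow q) (hF : Fintype.card F = q ^ 2)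
    (e : Nonempty (S ≃* ↥(twistedE6 F q)))
    (hnc : ∀ P : Sylow p S, ¬ IsCyclic (P : Subgroup S)) {d : ℕ} (hd : d = orderOf ((q : ℕ) : ZMod p)) :
    d = 1 ∨ d = 2 ∨ d = 3 ∨ d = 4 ∨ d = 6 := by
  subst hd
  have := finW hp6
  have hpF : (p : F) ≠ 0 := cast_ne_zero hrp
  have hq0 := cast_q_ne_zero hrp hF two_ne_zero
  obtain ⟨r', n, hr', hrF, hrk, hn0, hn, hk⟩ := exists_closure_q two_ne_zero hq hF
  have hpr : p ≠ r' := by
    rintro rfl
    exact hpF (CharP.cast_eq_zero F p)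
  have h : ¬ p ∣ Nat.card CoxeterMatrix.E₆.Group := by
    rw [card_E6]
    intro h
    have := dvd_51840 hpp.out (by omega) h
    omega
  have hset := setup_six (algebraMap F (AlgebraicClosure F)) r' hk hn0 hn hF (p := p) (by omega)
  have h1 := two_mul_totient_le hp6 hk (by omega) hpr h invC_E6 three_ne_zero hset (m := 2)
    (fun h1 => by have := Nat.le_of_dvd two_pos h1; omega) (fun x => by
      funext i
      fin_cases i <;> rfl) default (nc_equiv e hnc default)
  rw [← hn] at h1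
  exact totient_le_three hq0 (by omega)

end rows

end Cfsg.Agent.H765.KE
end
end
end
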